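import Mathlib

/-!
# Irreducible representations: Schur, density, quotients

Elementary vocabulary for modular representations of a group given as `Representation k G V`.
-/

set_option autoImplicit false

namespace Cfsg.Lib.Modular

variable {k : Type*} [Field k] {G : Type*} [Group G]
variable {V : Type*} [AddCommGroup V] [Module k V] {W : Type*} [AddCommGroup W] [Module k W]

/-- No invariant subspace except the two trivial ones. -/
structure Irred (ρ : Representation k G V) : Prop where
  nontrivial : Nontrivial V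
  eq_bot_or_top : ∀ U : Submodule k V, (∀ g, ∀ v ∈ U, ρ g v ∈ U) → U = ⊥ ∨ U = ⊤

/-- An equivariant linear map. -/
def Equivariant (ρ : Representation k G V) (σ : Representation k G W) (f : V →ₗ[k] W) : Prop :=
  ∀ g v, f (ρ g v) = σ g (f v)

/-- Isomorphism of representations. -/
def Iso (ρ : Representation k G V) (σ : Representation k G W) : Prop :=
  ∃ e : V ≃ₗ[k] W, Equivariant ρ σ e.toLinearMap

theorem Irred.bijective_or_zero {ρ : Representation k G V} {σ : Representation k G W} (hρ : Irred ρ)
    (hσ : Irred σ) {f : V →ₗ[k] W} (hf : Equivariant ρ σ f) : Function.Bijective f ∨ f = 0 := by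
  rcases hρ.eq_bot_or_top (LinearMap.ker f) (fun g v hv => by
      rw [LinearMap.mem_ker] at hv ⊢; rw [hf, hv, map_zero]) with h | h
  · rcases hσ.eq_bot_or_top (LinearMap.range f) (fun g v hv => by
        obtain ⟨u, rfl⟩ := hv; exact ⟨ρ g u, hf g u⟩) with h' | h'
    · exact Or.inr (LinearMap.range_eq_bot.1 h')
    · exact Or.inl ⟨LinearMap.ker_eq_bot.1 h, LinearMap.range_eq_top.1 h'⟩
  · exact Or.inr (LinearMap.ker_eq_top.1 h)

theorem Irred.scalar [IsAlgClosed k] [FiniteDimensional k V] {ρ : Representation k G V} (hρ : Irred ρ)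
    {f : V →ₗ[k] V} (hf : Equivariant ρ ρ f) : ∃ c : k, f = c • LinearMap.id := by
  haveI := hρ.nontrivial
  obtain ⟨c, hc⟩ := Module.End.exists_eigenvalue f
  refine ⟨c, ?_⟩
  have he : Equivariant ρ ρ (f - c • LinearMap.id) := fun g v => by
    simp [hf g v, map_sub, map_smul]
  rcases hρ.bijective_or_zero hρ he with h | h
  · obtain ⟨v, hv, hv0⟩ := hc.exists_hasEigenvector
    exfalso
    apply hv0
    apply h.1
    rw [map_zero, LinearMap.sub_apply, LinearMap.smul_apply, LinearMap.id_apply, sub_eq_zero]
    exact Module.End.mem_eigenspace_iff.1 hv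
  · exact sub_eq_zero.1 h

theorem Irred.isSimpleModule {ρ : Representation k G V} (hρ : Irred ρ) :
    IsSimpleModule (MonoidAlgebra k G) ρ.asModule := by
  haveI := hρ.nontrivial
  haveI : Nontrivial ρ.asModule := ρ.asModuleEquiv.toEquiv.nontrivial
  refine isSimpleModule_iff _ _ |>.2 ⟨fun U => ?_⟩
  let U' : Submodule k V :=
    { carrier := {v | ρ.asModuleEquiv.symm v ∈ U}
      add_mem' := fun {a b} ha hb => by
        show ρ.asModuleEquiv.symm (a + b) ∈ U
        rw [map_add]; exact U.add_mem ha hb
      zero_mem' := by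
        show ρ.asModuleEquiv.symm 0 ∈ U
        rw [map_zero]; exact U.zero_mem
      smul_mem' := fun c a ha => by
        show ρ.asModuleEquiv.symm (c • a) ∈ U
        rw [map_smul, ← algebraMap_smul (MonoidAlgebra k G) c (ρ.asModuleEquiv.symm a)]
        exact U.smul_mem _ ha }
  have hmem : ∀ x, x ∈ U ↔ ρ.asModuleEquiv x ∈ U' := fun x => by
    show _ ↔ ρ.asModuleEquiv.symm (ρ.asModuleEquiv x) ∈ U
    rw [LinearEquiv.symm_apply_apply]
  rcases hρ.eq_bot_or_top U' (fun g v hv => by
      show ρ.asModuleEquiv.symm (ρ g v) ∈ U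
      rw [Representation.asModuleEquiv_symm_map_rho]
      exact U.smul_mem _ hv) with h | h
  · refine Or.inl ((Submodule.eq_bot_iff _).2 fun x hx => ?_)
    rw [hmem, h, Submodule.mem_bot, LinearEquiv.map_eq_zero_iff] at hx
    exact hx
  · exact Or.inr (Submodule.eq_top_iff'.2 fun x => by rw [hmem, h]; trivial)

/-- Density: non-isomorphic irreducible representations are independent. -/
theorem density [IsAlgClosed k] {ι : Type*} [Fintype ι] {M : ι → Type*} [∀ i, AddCommGroup (M i)]
    [∀ i, Module k (M i)] [∀ i, FiniteDimensional k (M i)] {ρ : ∀ i, Representation k G (M i)}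
    (hirr : ∀ i, Irred (ρ i)) (hne : ∀ i j, i ≠ j → ¬ Iso (ρ i) (ρ j))
    (f : ∀ i, Module.End k (M i)) :
    ∃ a : MonoidAlgebra k G, ∀ i, (ρ i).asAlgebraHom a = f i := by
  classical
  haveI : ∀ i, IsSimpleModule (MonoidAlgebra k G) (ρ i).asModule := fun i => (hirr i).isSimpleModule
  let A := MonoidAlgebra k G
  let X := ∀ i, (ρ i).asModule
  let F : X → X := fun x i => (ρ i).asModuleEquiv.symm (f i ((ρ i).asModuleEquiv (x i)))
  have hFlin : ∀ (φ : Module.End A X) (x : X), F (φ x) = φ (F x) := by
    intro φ x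
    let φij : ∀ i j, M j →ₗ[k] M i := fun i j =>
      ((ρ i).asModuleEquiv.toLinearMap).comp
        ((((LinearMap.proj i : X →ₗ[A] (ρ i).asModule).comp φ).comp
          (LinearMap.single A (fun l => (ρ l).asModule) j)).restrictScalars k |>.comp
            (ρ j).asModuleEquiv.symm.toLinearMap)
    have hφe : ∀ i j, Equivariant (ρ j) (ρ i) (φij i j) := fun i j g v => by
      simp only [φij, LinearMap.comp_apply, LinearEquiv.coe_coe, LinearMap.coe_restrictScalars,
        Representation.asModuleEquiv_symm_map_rho, map_smul, Representation.asModuleEquiv_map_smul,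
        Representation.asAlgebraHom_single_one, MonoidAlgebra.of_apply]
    have hoff : ∀ i j, i ≠ j → φij i j = 0 := fun i j h => by
      rcases (hirr j).bijective_or_zero (hirr i) (hφe i j) with hb | hb
      · exact absurd ⟨LinearEquiv.ofBijective _ hb, hφe i j⟩ (hne j i h.symm)
      · exact hb
    choose c hc using fun i => (hirr i).scalar (hφe i i)
    have key : ∀ (y : X) i, (ρ i).asModuleEquiv (φ y i) = c i • (ρ i).asModuleEquiv (y i) := by
      intro y i
      conv_lhs => rw [← Finset.univ_sum_single y, map_sum, Finset.sum_apply, map_sum]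
      rw [Finset.sum_eq_single i]
      · have h1 := LinearMap.congr_fun (hc i) ((ρ i).asModuleEquiv (y i))
        simp only [φij, LinearMap.comp_apply, LinearEquiv.coe_coe, LinearMap.coe_restrictScalars,
          LinearEquiv.symm_apply_apply, LinearMap.proj_apply, LinearMap.smul_apply, LinearMap.id_apply] at h1
        exact h1
      · intro j _ hj
        have h1 := LinearMap.congr_fun (hoff i j hj.symm) ((ρ j).asModuleEquiv (y j))
        simp only [φij, LinearMap.comp_apply, LinearEquiv.coe_coe, LinearMap.coe_restrictScalars,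
          LinearEquiv.symm_apply_apply, LinearMap.proj_apply, LinearMap.zero_apply] at h1
        exact h1
      · simp
    funext i
    apply (ρ i).asModuleEquiv.injective
    rw [key (F x) i]
    simp only [F, LinearEquiv.apply_symm_apply, key x i, map_smul]
  let Φ : Module.End (Module.End A X) X :=
    { toFun := F
      map_add' := fun x y => by
        funext i
        change _ = F x i + F y i
        simp only [F]
        rw [show (x + y) i = x i + y i from rfl, map_add, map_add, map_add]
      map_smul' := fun φ x => hFlin φ x }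
  let s : Finset X := Finset.univ.biUnion fun i =>
    (Finset.univ.image fun b => Pi.single (M := fun l => (ρ l).asModule) i
      ((ρ i).asModuleEquiv.symm ((Module.finBasis k (M i)) b)))
  obtain ⟨a, ha⟩ := jacobson_density Φ s
  refine ⟨a, fun i => (Module.finBasis k (M i)).ext fun b => ?_⟩
  have h1 := congrFun (ha (Pi.single i ((ρ i).asModuleEquiv.symm ((Module.finBasis k (M i)) b)))
    (Finset.mem_biUnion.2 ⟨i, Finset.mem_univ _, Finset.mem_image.2 ⟨b, Finset.mem_univ _, rfl⟩⟩)) i
  have h2 := congrArg (ρ i).asModuleEquiv h1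
  simp only [Φ, F, LinearMap.coe_mk, AddHom.coe_mk, Pi.single_eq_same, LinearEquiv.apply_symm_apply,
    ] at h2
  have h3 : (ρ i).asModuleEquiv (a • (Pi.single (M := fun l => (ρ l).asModule) i
      ((ρ i).asModuleEquiv.symm ((Module.finBasis k (M i)) b))) i) = _ := h2.symm
  rw [Pi.single_eq_same, Representation.asModuleEquiv_map_smul, LinearEquiv.apply_symm_apply] at h3
  exact h3

/-- The representation on a quotient by an invariant subspace. -/
noncomputable def quotRep (ρ : Representation k G V) (U : Submodule k V)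
    (hU : ∀ g, ∀ v ∈ U, ρ g v ∈ U) : Representation k G (V ⧸ U) where
  toFun g := U.mapQ U (ρ g) fun v hv => hU g v hv
  map_one' := by ext v; simp
  map_mul' g h := by ext v; simp [map_mul]

theorem quotRep_mk (ρ : Representation k G V) (U : Submodule k V) (hU : ∀ g, ∀ v ∈ U, ρ g v ∈ U) (g : G)
    (v : V) : quotRep ρ U hU g (Submodule.Quotient.mk v) = Submodule.Quotient.mk (ρ g v) := rfl

/-- The representation on an invariant subspace. -/
def subRep (ρ : Representation k G V) (U : Submodule k V) (hU : ∀ g, ∀ v ∈ U, ρ g v ∈ U) :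
    Representation k G U where
  toFun g := (ρ g).restrict fun v hv => hU g v hv
  map_one' := by ext; simp
  map_mul' g h := by ext; simp

/-- The subspace spanned by the translates of a vector. -/
def orbitSpan (ρ : Representation k G V) (v : V) : Submodule k V :=
  Submodule.span k (Set.range fun g => ρ g v)

theorem orbitSpan_invariant (ρ : Representation k G V) (v : V) (g : G) :
    ∀ w ∈ orbitSpan ρ v, ρ g w ∈ orbitSpan ρ v := by
  intro w hw
  have h1 := Submodule.mem_map_of_mem (f := ρ g) hw
  rw [orbitSpan, Submodule.map_span] at h1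
  refine Submodule.span_mono ?_ h1
  rintro _ ⟨_, ⟨g', rfl⟩, rfl⟩
  exact ⟨g * g', by simp [map_mul]⟩

/-- A vector of an arbitrary representation survives in an irreducible subquotient. -/
theorem exists_irred_quotient [FiniteDimensional k V] (ρ : Representation k G V) {v : V} (hv : v ≠ 0) :
    ∃ (U : Submodule k (orbitSpan ρ v)) (hU : ∀ g, ∀ w ∈ U, subRep ρ _ (orbitSpan_invariant ρ v) g w ∈ U),
      Irred (quotRep _ U hU) ∧
        (Submodule.Quotient.mk ⟨v, Submodule.subset_span ⟨1, by simp⟩⟩ : _ ⧸ U) ≠ 0 := by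
  set σ := subRep ρ _ (orbitSpan_invariant ρ v)
  set v' : orbitSpan ρ v := ⟨v, Submodule.subset_span ⟨1, by simp⟩⟩
  let T : Set (Submodule k (orbitSpan ρ v)) := {U | (∀ g, ∀ w ∈ U, σ g w ∈ U) ∧ v' ∉ U}
  have hne : T.Nonempty := ⟨⊥, fun g w hw => by
    rw [Submodule.mem_bot] at hw ⊢; rw [hw, map_zero],
    fun h => hv (congrArg Subtype.val ((Submodule.mem_bot k).1 h))⟩
  obtain ⟨U, ⟨hU, hvU⟩, hmax⟩ := (wellFounded_gt (α := Submodule k (orbitSpan ρ v))).has_min T hne
  refine ⟨U, hU, ⟨⟨⟨Submodule.Quotient.mk v', 0, fun h => hvU ((Submodule.Quotient.mk_eq_zero U).1 h)⟩⟩,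
    fun Y hY => ?_⟩, fun h => hvU ((Submodule.Quotient.mk_eq_zero U).1 h)⟩
  let Y' := Y.comap U.mkQ
  have hUY : U ≤ Y' := fun w hw => by
    show U.mkQ w ∈ Y
    rw [Submodule.mkQ_apply, (Submodule.Quotient.mk_eq_zero U).2 hw]
    exact Y.zero_mem
  have hY' : ∀ g, ∀ w ∈ Y', σ g w ∈ Y' := fun g w hw => hY g _ hw
  have hsurj := Submodule.mkQ_surjective U
  by_cases hvY : v' ∈ Y'
  · refine Or.inr (Submodule.eq_top_iff'.2 fun x => ?_)
    obtain ⟨⟨w, hw⟩, rfl⟩ := hsurj x
    suffices h : ∀ w (hw : w ∈ orbitSpan ρ v), (⟨w, hw⟩ : orbitSpan ρ v) ∈ Y' from h w hw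
    intro w hw
    induction hw using Submodule.span_induction with
    | mem x hx =>
      obtain ⟨g, rfl⟩ := hx
      exact hY' g v' hvY
    | zero => exact Y'.zero_mem
    | add a b _ _ ha hb => exact Y'.add_mem ha hb
    | smul c a _ ha => exact Y'.smul_mem c ha
  · refine Or.inl ?_
    have : Y' = U := by
      rcases hUY.lt_or_eq with h | h
      · exact absurd h (hmax Y' ⟨hY', hvY⟩)
      · exact h.symm
    refine (Submodule.eq_bot_iff _).2 fun x hx => ?_
    obtain ⟨w, rfl⟩ := hsurj x
    rw [Submodule.mkQ_apply]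
    exact (Submodule.Quotient.mk_eq_zero U).2 (this ▸ hx)

end Cfsg.Lib.Modular
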