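import Cfsg.Agent.Modular.Trace
import Cfsg.Agent.Modular.Irred

/-!
# Brauer's count of irreducible modular representations

Over an algebraically closed field of characteristic `p` the number of irreducible representations of
a finite group equals the number of its `p`-regular classes.
-/

set_option autoImplicit false

universe uk uG

namespace Cfsg.Lib.Modular

variable {k : Type uk} [Field k] {G : Type uG} [Group G]

/-- A power of `p` that projects every element to its `p`-regular part. -/
theorem exists_regPart (G : Type uG) [Group G] [Finite G] {p : ℕ} (hp : p.Prime) :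
    ∃ n : ℕ, n ≠ 0 ∧ ∀ g : G, (orderOf (g ^ p ^ n)).Coprime p ∧
      (∀ j : ℕ, (g ^ p ^ n) ^ p ^ (n * j) = g ^ p ^ n) ∧
      ((orderOf g).Coprime p → g ^ p ^ n = g) := by
  set m := ordCompl[p] (Nat.card G) with hm
  set a := (Nat.card G).factorization p with ha
  have hN : Nat.card G ≠ 0 := Nat.card_pos.ne'
  have hmp : m.Coprime p := (Nat.coprime_ordCompl hp hN).symm
  have hmpos : 0 < m := Nat.ordCompl_pos p hN
  have htot : 0 < m.totient := Nat.totient_pos.2 hmpos
  refine ⟨m.totient * (a + 1), (Nat.mul_pos htot a.succ_pos).ne', fun g => ?_⟩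
  set n := m.totient * (a + 1) with hn
  have h1 : (g ^ p ^ n) ^ m = 1 := by
    rw [← pow_mul]
    refine orderOf_dvd_iff_pow_eq_one.1 ((orderOf_dvd_natCard g).trans ?_)
    rw [← Nat.ordProj_mul_ordCompl_eq_self (Nat.card G) p]
    refine Nat.mul_dvd_mul_right (pow_dvd_pow p ?_) _
    calc (Nat.card G).factorization p ≤ 1 * (a + 1) := by omega
      _ ≤ n := Nat.mul_le_mul_right _ htot
  have hfix : ∀ (h : G), h ^ m = 1 → ∀ j : ℕ, h ^ p ^ (n * j) = h := by
    intro h hh j
    have hmod : p ^ (n * j) ≡ 1 [MOD m] := by
      have := (Nat.ModEq.pow_totient hmp.symm).pow ((a + 1) * j)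
      rw [one_pow, ← pow_mul, ← mul_assoc] at this
      exact this
    conv_rhs => rw [← pow_one h]
    exact pow_eq_pow_iff_modEq.2 (hmod.of_dvd (orderOf_dvd_iff_pow_eq_one.2 hh))
  refine ⟨Nat.Coprime.coprime_dvd_left (orderOf_dvd_iff_pow_eq_one.2 h1) hmp, hfix _ h1, fun hg => ?_⟩
  have h2 : g ^ m = 1 := by
    refine orderOf_dvd_iff_pow_eq_one.1 (Nat.Coprime.dvd_of_dvd_mul_left (Nat.Coprime.pow_right a hg) ?_)
    rw [hm, ha, Nat.ordProj_mul_ordCompl_eq_self]
    exact orderOf_dvd_natCard g
  have := hfix g h2 1
  rwa [mul_one] at this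

theorem trace_regPart {p : ℕ} [Fact p.Prime] [CharP k p] {V : Type*} [AddCommGroup V] [Module k V]
    [FiniteDimensional k V] (ρ : Representation k G V) (g : G) (n : ℕ)
    (h : (g ^ p ^ n) ^ p ^ n = g ^ p ^ n) :
    LinearMap.trace k V (ρ g) = LinearMap.trace k V (ρ (g ^ p ^ n)) := by
  have hc : Commute (ρ g) (ρ (g ^ p ^ n)) := by
    rw [Commute, SemiconjBy, ← map_mul, ← map_mul, (Commute.self_pow g _).eq]
  rcases subsingleton_or_nontrivial V with hV | hV
  · congr 1
    exact LinearMap.ext fun v => Subsingleton.elim _ _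
  haveI : CharP (Module.End k V) p := charP_of_injective_algebraMap (algebraMap k (Module.End k V)).injective p
  have hnil : IsNilpotent (ρ g - ρ (g ^ p ^ n)) := by
    refine ⟨p ^ n, ?_⟩
    rw [sub_pow_char_pow_of_commute (p := p) _ hc, ← map_pow, ← map_pow, h, sub_self]
  rw [← sub_eq_zero, ← map_sub]
  exact (LinearMap.isNilpotent_trace_of_isNilpotent hnil).eq_zero

/-- Elements killing every irreducible representation are nilpotent. -/
theorem isNilpotent_of_kills [Finite G] {a : MonoidAlgebra k G}
    (h : ∀ (N : Type (max uk uG)) [AddCommGroup N] [Module k N] [FiniteDimensional k N]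
      (σ : Representation k G N), Irred σ → σ.asAlgebraHom a = 0) : IsNilpotent a := by
  have hmem : a ∈ Ring.jacobson (MonoidAlgebra k G) := by
    rw [Ring.jacobson_eq_sInf_isMaximal, Submodule.mem_sInf]
    intro m hm
    let N := MonoidAlgebra k G ⧸ m
    haveI : IsScalarTower k (MonoidAlgebra k G) N := inferInstance
    haveI : FiniteDimensional k N :=
      Module.Finite.of_surjective ((Submodule.mkQ m).restrictScalars k) (Submodule.mkQ_surjective m)
    haveI hsimple : IsSimpleModule (MonoidAlgebra k G) N := isSimpleModule_iff_isCoatom.2 (Ideal.IsMaximal.out (self := hm))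
    haveI := IsSimpleModule.nontrivial (MonoidAlgebra k G) N
    let σ : Representation k G N := Representation.ofModule' N
    have hσa : ∀ (x : MonoidAlgebra k G) (v : N), σ.asAlgebraHom x v = x • v := by
      intro x v
      show (MonoidAlgebra.lift k (N →ₗ[k] N) G σ) x v = x • v
      simp only [σ, Representation.ofModule', Equiv.apply_symm_apply]
      rfl
    have hσ : Irred σ := by
      refine ⟨inferInstance, fun U hU => ?_⟩
      have hU' : ∀ (x : MonoidAlgebra k G), ∀ v ∈ U, x • v ∈ U := by
        intro x v hv
        induction x using MonoidAlgebra.induction_on with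
        | of g => rw [← hσa, Representation.asAlgebraHom_of]; exact hU g v hv
        | add x y hx hy => rw [add_smul]; exact U.add_mem hx hy
        | smul c x hx => rw [smul_assoc]; exact U.smul_mem c hx
      let U' : Submodule (MonoidAlgebra k G) N :=
        { carrier := U, add_mem' := U.add_mem, zero_mem' := U.zero_mem, smul_mem' := hU' }
      rcases eq_bot_or_eq_top U' with h' | h'
      · exact Or.inl ((Submodule.eq_bot_iff _).2 fun v hv => (Submodule.mem_bot _).1
          (h' ▸ (hv : v ∈ U') : v ∈ (⊥ : Submodule (MonoidAlgebra k G) N)))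
      · exact Or.inr (Submodule.eq_top_iff'.2 fun v =>
          (h'.symm ▸ Submodule.mem_top : v ∈ U'))
    have h1 := LinearMap.congr_fun (h N σ hσ) (Submodule.Quotient.mk 1)
    rw [hσa, LinearMap.zero_apply, ← Submodule.Quotient.mk_smul, smul_eq_mul, mul_one] at h1
    exact (Submodule.Quotient.mk_eq_zero m).1 h1
  haveI : IsArtinianRing (MonoidAlgebra k G) := IsArtinianRing.of_finite k _
  obtain ⟨j, hj⟩ := IsArtinianRing.isNilpotent_jacobson_bot (R := MonoidAlgebra k G)
  rw [Ring.jacobson_eq_sInf_isMaximal] at hmem
  refine ⟨j, ?_⟩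
  have h2 : a ^ j ∈ Ideal.jacobson (⊥ : Ideal (MonoidAlgebra k G)) ^ j := by
    refine Ideal.pow_mem_pow ?_ j
    rw [Ideal.jacobson, Submodule.mem_sInf]
    intro m hm
    exact (Submodule.mem_sInf.1 hmem) m hm.2
  rw [hj] at h2
  exact h2

variable [IsAlgClosed k]

/-- Brauer's theorem. -/
theorem brauer_count [Finite G] {p : ℕ} [hp : Fact p.Prime] [CharP k p] {ι : Type*} [Fintype ι]
    {M : ι → Type*} [∀ i, AddCommGroup (M i)] [∀ i, Module k (M i)] [∀ i, FiniteDimensional k (M i)]
    (ρ : ∀ i, Representation k G (M i)) (hirr : ∀ i, Irred (ρ i))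
    (hne : ∀ i j, i ≠ j → ¬ Iso (ρ i) (ρ j))
    (hall : ∀ (N : Type (max uk uG)) [AddCommGroup N] [Module k N] [FiniteDimensional k N]
      (σ : Representation k G N), Irred σ → ∃ i, Iso (ρ i) σ) :
    Nat.card {c : ConjClasses G // ∃ g : G, ConjClasses.mk g = c ∧ (orderOf g).Coprime p} =
      Fintype.card ι := by
  classical
  haveI : Fintype G := Fintype.ofFinite G
  let R := {c : ConjClasses G // ∃ g : G, ConjClasses.mk g = c ∧ (orderOf g).Coprime p}
  choose r hr1 hr2 using fun c : R => c.2
  obtain ⟨n, hn0, hn⟩ := exists_regPart G hp.out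
  have hn1 : ∀ g : G, (g ^ p ^ n) ^ p ^ n = g ^ p ^ n := fun g => by
    simpa using (hn g).2.1 1
  let cls : G → R := fun g => ⟨ConjClasses.mk (g ^ p ^ n), g ^ p ^ n, rfl, (hn g).1⟩
  let θ : ∀ i, MonoidAlgebra k G →ₗ[k] k := fun i =>
    (LinearMap.trace k (M i)).comp (ρ i).asAlgebraHom.toLinearMap
  have htrc : ∀ i g, LinearMap.trace k (M i) (ρ i g) = LinearMap.trace k (M i) (ρ i (r (cls g))) := by
    intro i g
    rw [trace_regPart (ρ i) g n (hn1 g)]
    obtain ⟨c, hc⟩ := isConj_iff.1 (ConjClasses.mk_eq_mk_iff_isConj.1 (hr1 (cls g)))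
    rw [← hc, map_mul, LinearMap.trace_mul_comm, ← map_mul]
    congr 2
    group
  let Φ : (ι → k) →ₗ[k] (R → k) :=
    { toFun := fun c C => ∑ i, c i * LinearMap.trace k (M i) (ρ i (r C))
      map_add' := fun a b => by funext C; simp [add_mul, Finset.sum_add_distrib]
      map_smul' := fun a b => by funext C; simp [Finset.mul_sum, mul_assoc] }
  have hinj : Function.Injective Φ := by
    rw [injective_iff_map_eq_zero]
    intro c hc
    have hall0 : ∀ x : MonoidAlgebra k G, ∑ i, c i * θ i x = 0 := by
      intro x
      induction x using MonoidAlgebra.induction_on with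
      | of g =>
        simp only [θ, LinearMap.comp_apply, AlgHom.toLinearMap_apply, Representation.asAlgebraHom_of, htrc _ g]
        exact congrFun hc (cls g)
      | add x y hx hy => simp only [map_add, mul_add, Finset.sum_add_distrib, hx, hy, add_zero]
      | smul a x hx =>
        simp only [map_smul, smul_eq_mul, mul_left_comm _ a, ← Finset.mul_sum, hx, mul_zero]
    funext i
    haveI := (hirr i).nontrivial
    let b := Module.finBasis k (M i)
    have hpos : 0 < Module.finrank k (M i) := Module.finrank_pos
    obtain ⟨x, hx⟩ := density hirr hne fun j => if h : j = i then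
      h.symm ▸ ((b.coord ⟨0, hpos⟩).smulRight (b ⟨0, hpos⟩)) else 0
    have h1 := hall0 x
    rw [Finset.sum_eq_single i] at h1
    · have h2 := hx i
      rw [dif_pos rfl] at h2
      simp only [θ, LinearMap.comp_apply, AlgHom.toLinearMap_apply, h2, LinearMap.trace_smulRight,
        Module.Basis.coord_apply, Module.Basis.repr_self, Finsupp.single_eq_same, mul_one] at h1
      exact h1
    · intro j _ hj
      have h2 := hx j
      rw [dif_neg hj] at h2
      simp [θ, h2]
    · simp
  have hsurj : Function.Surjective Φ := by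
    suffices h : ∀ C0 : R, Pi.single C0 (1 : k) ∈ LinearMap.range Φ by
      intro f
      have hf : f ∈ LinearMap.range Φ := by
        haveI : Fintype R := Fintype.ofFinite _
        rw [← Finset.univ_sum_single f]
        refine Submodule.sum_mem _ fun C _ => ?_
        rw [show Pi.single C (f C) = f C • Pi.single (M := fun _ => k) C (1 : k) by
          rw [← Pi.single_smul', smul_eq_mul, mul_one]]
        exact Submodule.smul_mem _ _ (h C)
      exact hf
    intro C0
    let F : G → k := fun g => if cls g = C0 then 1 else 0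
    let b := MonoidAlgebra.basis G k
    let ε : MonoidAlgebra k G →ₗ[k] k := b.constr k F
    have hεof : ∀ g, ε (MonoidAlgebra.of k G g) = F g := fun g => by
      rw [show MonoidAlgebra.of k G g = b g from rfl]
      exact b.constr_basis k F g
    have hcomm : ∀ x y, ε (x * y) = ε (y * x) := by
      intro x y
      induction x using MonoidAlgebra.induction_on with
      | of g =>
        induction y using MonoidAlgebra.induction_on with
        | of h =>
          rw [← map_mul, ← map_mul, hεof, hεof]
          have : cls (g * h) = cls (h * g) := Subtype.ext (ConjClasses.mk_eq_mk_iff_isConj.2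
            ((isConj_iff.2 ⟨h, by group⟩ : IsConj (g * h) (h * g)).pow _))
          simp only [F, this]
        | add u v hu hv => simp only [mul_add, add_mul, map_add, hu, hv]
        | smul a u hu => simp only [smul_mul_assoc, mul_smul_comm, map_smul, hu]
      | add u v hu hv => simp only [mul_add, add_mul, map_add, hu, hv]
      | smul a u hu => simp only [smul_mul_assoc, mul_smul_comm, map_smul, hu]
    let π : MonoidAlgebra k G →ₗ[k] (∀ i, Module.End k (M i)) :=
      LinearMap.pi fun i => (ρ i).asAlgebraHom.toLinearMap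
    have hker : ∀ x, π x = 0 → ε x = 0 := by
      intro x hx
      obtain ⟨j, hj⟩ := isNilpotent_of_kills (a := x) fun N _ _ _ σ hσ => by
        obtain ⟨i, e, he⟩ := hall N σ hσ
        have : ∀ (z : MonoidAlgebra k G) (v : M i),
            e ((ρ i).asAlgebraHom z v) = σ.asAlgebraHom z (e v) := by
          intro z v
          induction z using MonoidAlgebra.induction_on with
          | of g => simp only [Representation.asAlgebraHom_of]; exact he g v
          | add u w hu hw => simp only [map_add, LinearMap.add_apply, hu, hw]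
          | smul a u hu => simp only [map_smul, LinearMap.smul_apply, hu]
        refine LinearMap.ext fun v => ?_
        obtain ⟨w, rfl⟩ := e.surjective v
        rw [← this, show (ρ i).asAlgebraHom x = 0 from congrFun hx i]
        simp
      have hjN : j ≤ p ^ (n * (j + 1)) :=
        le_trans (le_trans (Nat.le_succ j) (Nat.le_mul_of_pos_left _ (Nat.pos_of_ne_zero hn0)))
          (Nat.lt_pow_self hp.out.one_lt).le
      have h0 := congrArg ε (pow_eq_zero_of_le hjN hj)
      have hFN : ∀ g, F (g ^ p ^ (n * (j + 1))) = F g := fun g => by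
        have e : (g ^ p ^ (n * (j + 1))) ^ p ^ n = g ^ p ^ n := by
          rw [← pow_mul, mul_comm, pow_mul]
          exact (hn g).2.1 _
        have : cls (g ^ p ^ (n * (j + 1))) = cls g := Subtype.ext (congrArg ConjClasses.mk e)
        simp only [F, this]
      rw [← b.sum_repr x, map_sum_pow (p := p) ε hcomm, map_zero] at h0
      simp only [b, MonoidAlgebra.basis_apply, ← MonoidAlgebra.of_apply, ← map_pow, hεof, hFN] at h0
      have hFp : ∀ g, F g = F g ^ p ^ (n * (j + 1)) := fun g => by
        simp only [F]
        split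
        · rw [one_pow]
        · rw [zero_pow (pow_ne_zero _ hp.out.pos.ne')]
      rw [Finset.sum_congr rfl fun g _ => by rw [hFp g, ← mul_pow], ← sum_pow_char_pow] at h0
      rw [← b.sum_repr x, map_sum]
      simp only [map_smul, smul_eq_mul, b, MonoidAlgebra.basis_apply, ← MonoidAlgebra.of_apply, hεof]
      exact eq_zero_of_pow_eq_zero h0
    have hπsurj : LinearMap.range π = ⊤ := LinearMap.range_eq_top.2 fun f => by
      obtain ⟨a, ha⟩ := density hirr hne f
      exact ⟨a, funext ha⟩
    obtain ⟨sec, hsec⟩ := π.exists_rightInverse_of_surjective hπsurj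
    have hs : ∀ x, ε (sec (π x)) = ε x := fun x => by
      have h1 : π (sec (π x) - x) = 0 := by
        rw [map_sub, sub_eq_zero]
        exact LinearMap.congr_fun hsec (π x)
      have := hker _ h1
      rwa [map_sub, sub_eq_zero] at this
    have hπmul : ∀ x y, π (x * y) = π x * π y := fun x y => by
      funext i; exact map_mul (ρ i).asAlgebraHom x y
    let φ : (∀ i, Module.End k (M i)) →ₗ[k] k := ε.comp sec
    have hφ : ∀ A B, φ (A * B) = φ (B * A) := fun A B => by
      obtain ⟨x, rfl⟩ := LinearMap.range_eq_top.1 hπsurj A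
      obtain ⟨y, rfl⟩ := LinearMap.range_eq_top.1 hπsurj B
      show ε (sec _) = ε (sec _)
      rw [← hπmul, ← hπmul, hs, hs, hcomm]
    choose c hc using fun i => end_trace_like
      (φ.comp (LinearMap.single k (fun j => Module.End k (M j)) i)) fun A B => by
        simp only [LinearMap.comp_apply, LinearMap.coe_single, Pi.single_mul]
        exact hφ _ _
    refine ⟨c, funext fun C => ?_⟩
    show ∑ i, c i * LinearMap.trace k (M i) (ρ i (r C)) = _
    rw [Finset.sum_congr rfl fun i _ => (hc i (ρ i (r C))).symm]
    simp only [LinearMap.comp_apply, LinearMap.coe_single]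
    rw [← map_sum, Finset.univ_sum_single fun i => ρ i (r C)]
    have hπof : π (MonoidAlgebra.of k G (r C)) = fun i => ρ i (r C) :=
      funext fun i => Representation.asAlgebraHom_of _ _
    rw [← hπof]
    show ε (sec (π _)) = _
    rw [hs, hεof]
    have : cls (r C) = C := Subtype.ext (by
      show ConjClasses.mk _ = _
      rw [(hn (r C)).2.2 (hr2 C), hr1 C])
    simp [F, this, Pi.single_apply]
  haveI : Fintype R := Fintype.ofFinite _
  have := (LinearEquiv.ofBijective Φ ⟨hinj, hsurj⟩).finrank_eq
  rw [Module.finrank_fintype_fun_eq_card, Module.finrank_fintype_fun_eq_card] at this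
  rw [Nat.card_eq_fintype_card]
  exact this.symm

end Cfsg.Lib.Modular
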