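import Mathlib

/-!
# Trace-like functionals in characteristic `p`

If `τ (x * y) = τ (y * x)` then `τ ((∑ aⱼ xⱼ) ^ q) = ∑ aⱼ ^ q τ (xⱼ ^ q)` for every power `q` of the
characteristic, and on a matrix algebra such a functional is a multiple of the trace.
-/

set_option autoImplicit false

namespace Cfsg.Lib.Modular

open MulAction

variable {k : Type*} [CommRing k] {p : ℕ} [Fact p.Prime] [CharP k p]

/-- Sum over a set acted on by a `p`-group reduces to the fixed points in characteristic `p`. -/
theorem sum_eq_sum_fixed {P X : Type*} [Group P] [MulAction P X] [Finite P] [Fintype X]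
    (hP : IsPGroup p P) (φ : X → k) (hφ : ∀ (g : P) x, φ (g • x) = φ x)
    [DecidablePred fun x : X => x ∈ fixedPoints P X] :
    ∑ x, φ x = ∑ x ∈ Finset.univ.filter (fun x : X => x ∈ fixedPoints P X), φ x := by
  classical
  rw [← Finset.sum_filter_add_sum_filter_not Finset.univ (fun x : X => x ∈ fixedPoints P X)]
  rw [add_eq_left]
  let Ω := orbitRel.Quotient P X
  rw [← Finset.sum_fiberwise (g := fun x : X => (Quotient.mk (orbitRel P X) x : Ω))]
  refine Finset.sum_eq_zero fun ω _ => ?_
  rcases (Finset.filter (fun x => (Quotient.mk (orbitRel P X) x : Ω) = ω)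
    (Finset.filter (fun x => ¬ x ∈ fixedPoints P X) Finset.univ)).eq_empty_or_nonempty with h | ⟨a, ha⟩
  · rw [h, Finset.sum_empty]
  simp only [Finset.mem_filter, Finset.mem_univ, true_and] at ha
  obtain ⟨hna, rfl⟩ := ha
  have hset : (Finset.filter (fun x => (Quotient.mk (orbitRel P X) x : Ω) = Quotient.mk (orbitRel P X) a)
      (Finset.filter (fun x => ¬ x ∈ fixedPoints P X) Finset.univ)) = (orbit P a).toFinset := by
    ext x
    simp only [Finset.mem_filter, Finset.mem_univ, true_and, Set.mem_toFinset, Quotient.eq,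
      orbitRel_apply]
    refine ⟨fun h => h.2, fun h => ⟨?_, h⟩⟩
    obtain ⟨g, rfl⟩ := h
    intro hx
    apply hna
    intro g'
    have := hx (g * g' * g⁻¹)
    simp only [smul_smul, inv_mul_cancel_right] at this
    simpa [mul_smul] using congrArg (g⁻¹ • ·) this
  rw [hset, Finset.sum_congr rfl (g := fun _ => φ a) (fun x hx => by
    obtain ⟨g, rfl⟩ := Set.mem_toFinset.1 hx
    exact hφ g a), Finset.sum_const, nsmul_eq_mul]
  obtain ⟨n, hn⟩ := hP.card_orbit a
  have h1 : n ≠ 0 := by
    rintro rfl
    exact hna (mem_fixedPoints_iff_card_orbit_eq_one.2 (by rw [pow_zero, Nat.card_eq_fintype_card] at hn; exact hn))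
  rw [Set.toFinset_card, ← Nat.card_eq_fintype_card, hn, Nat.cast_pow, CharP.cast_eq_zero, zero_pow h1,
    zero_mul]

variable {R : Type*} [Ring R] [Algebra k R] (τ : R →ₗ[k] k)

/-- A power of a sum, expanded in a noncommutative ring. -/
theorem sum_pow_expand {J : Type*} [Fintype J] [DecidableEq J] (x : J → R) :
    ∀ m : ℕ, (∑ j, x j) ^ m = ∑ f : Fin m → J, (List.ofFn fun i => x (f i)).prod
  | 0 => by simp
  | m + 1 => by
    rw [pow_succ', sum_pow_expand x m, Finset.sum_mul_sum, ← (Fin.consEquiv fun _ => J).sum_comp,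
      Fintype.sum_prod_type]
    refine Finset.sum_congr rfl fun j _ => Finset.sum_congr rfl fun f _ => ?_
    simp [Fin.consEquiv, List.ofFn_succ]

/-- The rotation of a word, as a permutation of the words. -/
theorem rot_invariant {J : Type*} (x : J → R) (hτ : ∀ a b : R, τ (a * b) = τ (b * a)) {N : ℕ} [NeZero N]
    (f : ZMod N → J) (c : ZMod N) :
    τ (((List.range N).map fun i : ℕ => x (f ((i : ZMod N) + c))).prod) =
      τ (((List.range N).map fun i : ℕ => x (f (i : ZMod N))).prod) := by
  obtain ⟨M, rfl⟩ := Nat.exists_eq_succ_of_ne_zero (NeZero.ne N)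
  have step : ∀ f : ZMod (M + 1) → J,
      τ (((List.range (M + 1)).map fun i : ℕ => x (f ((i : ZMod (M + 1)) + 1))).prod) =
        τ (((List.range (M + 1)).map fun i : ℕ => x (f (i : ZMod (M + 1)))).prod) := by
    intro f
    conv_rhs => rw [List.range_succ_eq_map, List.map_cons, List.prod_cons, hτ]
    conv_lhs => rw [List.range_succ, List.map_append, List.prod_append]
    congr 2
    · rw [List.map_map]
      congr 1
      refine List.map_congr_left fun i _ => ?_
      simp
    · simp only [List.map_cons, List.map_nil, List.prod_cons, List.prod_nil, mul_one, Nat.cast_zero]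
      congr 2
      exact_mod_cast ZMod.natCast_self (M + 1)
  have main : ∀ n : ℕ, ∀ f : ZMod (M + 1) → J,
      τ (((List.range (M + 1)).map fun i : ℕ => x (f ((i : ZMod (M + 1)) + (n : ZMod (M + 1))))).prod) =
        τ (((List.range (M + 1)).map fun i : ℕ => x (f (i : ZMod (M + 1)))).prod) := by
    intro n
    induction n with
    | zero => intro f; simp
    | succ n ih =>
      intro f
      rw [← ih f, ← step fun i => f (i + (n : ZMod (M + 1)))]
      congr 2
      refine List.map_congr_left fun i _ => ?_
      push_cast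
      rw [add_right_comm, add_assoc]
  simpa using main c.val f

/-- Frobenius for trace-like functionals. -/
theorem map_sum_pow (hτ : ∀ a b : R, τ (a * b) = τ (b * a)) {J : Type*} [Fintype J] (a : J → k)
    (x : J → R) (n : ℕ) :
    τ ((∑ j, a j • x j) ^ p ^ n) = ∑ j, a j ^ p ^ n * τ (x j ^ p ^ n) := by
  classical
  set N := p ^ n with hN
  haveI : NeZero N := ⟨pow_ne_zero _ (Fact.out : p.Prime).pos.ne'⟩
  let w : (ZMod N → J) → k := fun f => τ (((List.range N).map fun i : ℕ => a (f (i : ZMod N)) • x (f (i : ZMod N))).prod)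
  have h1 : τ ((∑ j, a j • x j) ^ N) = ∑ f : ZMod N → J, w f := by
    rw [sum_pow_expand, map_sum]
    refine Fintype.sum_equiv (Equiv.arrowCongr (ZMod.finEquiv N).toEquiv (Equiv.refl J)) _ _ fun f => ?_
    simp only [w]
    congr 2
    rw [List.ofFn_eq_map, ← List.map_coe_finRange_eq_range, List.map_map]
    refine List.map_congr_left fun i _ => ?_
    have e : ((i : ℕ) : ZMod N) = ZMod.finEquiv N i := by
      refine ZMod.val_injective N ?_
      rw [ZMod.val_natCast_of_lt i.isLt]
      obtain ⟨M, hM⟩ := Nat.exists_eq_succ_of_ne_zero (NeZero.ne N)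
      clear_value N
      subst hM
      rfl
    simp [e, Equiv.arrowCongr_apply]
  let P := Multiplicative (ZMod N)
  letI : MulAction P (ZMod N → J) :=
    { smul := fun c f i => f (i + c.toAdd)
      one_smul := fun f => funext fun i => by
        show f (i + (1 : P).toAdd) = f i
        simp
      mul_smul := fun c d f => funext fun i => by
        show f (i + (c * d).toAdd) = f (i + c.toAdd + d.toAdd)
        rw [add_assoc]
        rfl }
  have hPg : IsPGroup p P := IsPGroup.of_card (n := n) (by
    rw [Nat.card_eq_fintype_card, Fintype.card_multiplicative, ZMod.card])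
  have h2 := sum_eq_sum_fixed hPg w (fun c f => rot_invariant τ (fun j => a j • x j) hτ f c.toAdd)
  rw [h1, h2]
  symm
  refine Finset.sum_bij (fun j _ => fun _ => j) (fun j _ => ?_) (fun i _ j _ e => congrFun e 0)
    (fun f hf => ⟨f 0, Finset.mem_univ _, ?_⟩) fun j _ => ?_
  · simp only [Finset.mem_filter, Finset.mem_univ, true_and]
    exact fun c => rfl
  · funext i
    have h := (Finset.mem_filter.1 hf).2 (Multiplicative.ofAdd i)
    have := congrFun h 0
    change f (0 + i) = f 0 at this
    rw [zero_add] at this
    exact this.symm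
  · simp only [w, List.map_const', List.length_range, List.prod_replicate, smul_pow, map_smul, smul_eq_mul]

/-- A trace-like functional on a matrix algebra is a multiple of the trace. -/
theorem matrix_trace_like {m : Type*} [Fintype m] [DecidableEq m] (i₀ : m)
    (φ : Matrix m m k →ₗ[k] k) (hφ : ∀ a b, φ (a * b) = φ (b * a)) (A : Matrix m m k) :
    φ A = φ (Matrix.single i₀ i₀ 1) * Matrix.trace A := by
  have hoff : ∀ i j, i ≠ j → φ (Matrix.single i j 1) = 0 := fun i j h => by
    have h1 := hφ (Matrix.single i i 1) (Matrix.single i j 1)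
    rw [Matrix.single_mul_single_same, Matrix.single_mul_single_of_ne (h := h.symm)] at h1
    simpa using h1
  have hon : ∀ i, φ (Matrix.single i i 1) = φ (Matrix.single i₀ i₀ 1) := fun i => by
    have h1 := hφ (Matrix.single i i₀ 1) (Matrix.single i₀ i 1)
    simpa using h1
  conv_lhs => rw [Matrix.matrix_eq_sum_single A]
  simp only [map_sum]
  rw [Matrix.trace, Finset.mul_sum]
  refine Finset.sum_congr rfl fun i _ => ?_
  rw [Finset.sum_eq_single i]
  · rw [show Matrix.single i i (A i i) = A i i • Matrix.single i i 1 by simp, map_smul, hon, smul_eq_mul,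
      mul_comm]
    rfl
  · intro j _ hj
    rw [show Matrix.single i j (A i j) = A i j • Matrix.single i j 1 by simp, map_smul, hoff i j hj.symm,
      smul_zero]
  · simp

/-- A trace-like functional on the endomorphisms of a free module is a multiple of the trace. -/
theorem end_trace_like {V : Type*} [AddCommGroup V] [Module k V] [Module.Finite k V] [Module.Free k V]
    (φ : Module.End k V →ₗ[k] k) (hφ : ∀ a b, φ (a * b) = φ (b * a)) :
    ∃ c : k, ∀ A, φ A = c * LinearMap.trace k V A := by
  classical
  rcases subsingleton_or_nontrivial k with hk | hk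
  · exact ⟨0, fun A => Subsingleton.elim _ _⟩
  let b := Module.Free.chooseBasis k V
  rcases isEmpty_or_nonempty (Module.Free.ChooseBasisIndex k V) with h | ⟨⟨i₀⟩⟩
  · refine ⟨0, fun A => ?_⟩
    have hA : A = 0 := LinearMap.ext fun v => by
      rw [← b.sum_repr (A v), LinearMap.zero_apply]
      simp
    simp [hA]
  let e := LinearMap.toMatrixAlgEquiv b
  refine ⟨(φ.comp e.symm.toLinearMap) (Matrix.single i₀ i₀ 1), fun A => ?_⟩
  have h1 := matrix_trace_like i₀ (φ.comp e.symm.toLinearMap) (fun x y => by
    simp only [LinearMap.comp_apply, AlgEquiv.toLinearMap_apply, map_mul, hφ]) (e A)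
  simp only [LinearMap.comp_apply, AlgEquiv.toLinearMap_apply, AlgEquiv.symm_apply_apply] at h1 ⊢
  rw [h1, LinearMap.trace_eq_matrix_trace k b A]
  rfl

end Cfsg.Lib.Modular
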