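import Cfsg.Agent.Modular.Irred

/-!
# Double coset operators on the vectors fixed by a subgroup

`hop ρ U n v` is the sum of `c • v` over the left cosets `c` of `U` inside `U n U`.
-/

set_option autoImplicit false

namespace Cfsg.Lib.Modular

variable {k : Type*} [Field k] {G : Type*} [Group G]
variable {V : Type*} [AddCommGroup V] [Module k V] {W : Type*} [AddCommGroup W] [Module k W]

/-- `v` is fixed by `U`. -/
def Fixed (ρ : Representation k G V) (U : Subgroup G) (v : V) : Prop := ∀ u ∈ U, ρ u v = v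

open Classical in
/-- The left cosets of `U` inside `U n U`. -/
noncomputable def cosets (U : Subgroup G) [Fintype U] (n : G) : Finset (G ⧸ U) :=
  Finset.univ.image fun u : U => ((u : G) * n : G ⧸ U)

/-- The double coset operator. -/
noncomputable def hop (ρ : Representation k G V) (U : Subgroup G) [Fintype U] (n : G) (v : V) : V :=
  ∑ c ∈ cosets U n, ρ c.out v

variable {ρ : Representation k G V} {σ : Representation k G W} {U : Subgroup G} [Fintype U]

theorem mem_cosets {n g : G} : (g : G ⧸ U) ∈ cosets U n ↔ ∃ u ∈ U, (u * n)⁻¹ * g ∈ U := by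
  classical
  simp only [cosets, Finset.mem_image, Finset.mem_univ, true_and, QuotientGroup.eq, Subtype.exists,
    exists_prop]

theorem Fixed.apply_out {v : V} (hv : Fixed ρ U v) (g : G) : ρ (g : G ⧸ U).out v = ρ g v := by
  obtain ⟨h, hh⟩ := QuotientGroup.mk_out_eq_mul U g
  rw [hh, map_mul, Module.End.mul_apply, hv _ h.2]

/-- A bijective parametrisation of the cosets evaluates the operator. -/
theorem hop_eq_sum {v : V} (hv : Fixed ρ U v) {n : G} {J : Type*} [Fintype J] (f : J → G)
    (hmem : ∀ j, (f j : G ⧸ U) ∈ cosets U n)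
    (hinj : ∀ i j, (f i)⁻¹ * f j ∈ U → i = j)
    (hsurj : ∀ u ∈ U, ∃ j, (f j)⁻¹ * (u * n) ∈ U) :
    hop ρ U n v = ∑ j, ρ (f j) v := by
  classical
  symm
  refine Finset.sum_bij (fun j _ => (f j : G ⧸ U)) (fun j _ => hmem j)
    (fun i _ j _ e => hinj i j (QuotientGroup.eq.1 e)) (fun c hc => ?_) fun j _ => (hv.apply_out _).symm
  simp only [cosets, Finset.mem_image, Finset.mem_univ, true_and] at hc
  obtain ⟨⟨u, hu⟩, rfl⟩ := hc
  obtain ⟨j, hj⟩ := hsurj u hu
  exact ⟨j, Finset.mem_univ _, QuotientGroup.eq.2 hj⟩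

theorem hop_one {v : V} (hv : Fixed ρ U v) : hop ρ U 1 v = v := by
  rw [hop_eq_sum hv (J := Unit) (fun _ => 1) (fun _ => mem_cosets.2 ⟨1, one_mem _, by simp⟩)
    (fun _ _ _ => rfl) fun u hu => ⟨(), by simpa using hu⟩]
  simp

theorem fixed_hop {v : V} (hv : Fixed ρ U v) (n : G) : Fixed ρ U (hop ρ U n v) := by
  intro u hu
  rw [hop, map_sum]
  refine Finset.sum_nbij' (fun c => (u : G) • c) (fun c => (u⁻¹ : G) • c) ?_ ?_ ?_ ?_ ?_
  · intro c hc
    induction c using QuotientGroup.induction_on with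
    | _ g =>
      obtain ⟨a, ha, h⟩ := mem_cosets.1 hc
      refine mem_cosets.2 ⟨u * a, mul_mem hu ha, ?_⟩
      convert h using 1
      simp [mul_assoc]
  · intro c hc
    induction c using QuotientGroup.induction_on with
    | _ g =>
      obtain ⟨a, ha, h⟩ := mem_cosets.1 hc
      refine mem_cosets.2 ⟨u⁻¹ * a, mul_mem (inv_mem hu) ha, ?_⟩
      convert h using 1
      simp [mul_assoc]
  · intro c _; simp
  · intro c _; simp
  · intro c _
    induction c using QuotientGroup.induction_on with
    | _ g =>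
      rw [show (u : G) • (g : G ⧸ U) = ((u * g : G) : G ⧸ U) from rfl, hv.apply_out, hv.apply_out,
        map_mul, Module.End.mul_apply]

/-- Left multiplication by an element normalising `U`. -/
theorem hop_left {v : V} (hv : Fixed ρ U v) {t : G} (ht : ∀ x, x ∈ U ↔ t * x * t⁻¹ ∈ U) (n : G) :
    hop ρ U (t * n) v = ρ t (hop ρ U n v) := by
  rw [hop, hop, map_sum]
  symm
  refine Finset.sum_nbij' (fun c => (t : G) • c) (fun c => (t⁻¹ : G) • c) ?_ ?_ ?_ ?_ ?_
  · intro c hc
    induction c using QuotientGroup.induction_on with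
    | _ g =>
      obtain ⟨a, ha, h⟩ := mem_cosets.1 hc
      refine mem_cosets.2 ⟨t * a * t⁻¹, (ht a).1 ha, ?_⟩
      convert h using 1
      simp [mul_assoc]
  · intro c hc
    induction c using QuotientGroup.induction_on with
    | _ g =>
      obtain ⟨a, ha, h⟩ := mem_cosets.1 hc
      refine mem_cosets.2 ⟨t⁻¹ * a * t, (ht _).2 (by simpa [mul_assoc] using ha), ?_⟩
      convert h using 1
      simp [mul_assoc]
  · intro c _; simp
  · intro c _; simp
  · intro c _
    induction c using QuotientGroup.induction_on with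
    | _ g =>
      rw [show (t : G) • (g : G ⧸ U) = ((t * g : G) : G ⧸ U) from rfl, hv.apply_out, hv.apply_out,
        map_mul, Module.End.mul_apply]

/-- Right multiplication by an element normalising `U`. -/
theorem hop_right {v : V} (hv : Fixed ρ U v) {t : G} (ht : ∀ x, x ∈ U ↔ t * x * t⁻¹ ∈ U) (n : G) :
    hop ρ U (n * t) v = hop ρ U n (ρ t v) := by
  have hv' : Fixed ρ U (ρ t v) := fun u hu => by
    have h1 := hv (t⁻¹ * u * t) ((ht _).2 (by simpa [mul_assoc] using hu))
    conv_rhs => rw [← h1]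
    rw [← Module.End.mul_apply, ← Module.End.mul_apply, ← map_mul, ← map_mul]
    congr 2
    group
  rw [hop_eq_sum hv (J := {c // c ∈ cosets U n}) (fun c => c.1.out * t)]
  · rw [hop, ← Finset.sum_coe_sort (cosets U n) (fun c => ρ c.out (ρ t v))]
    simp only [map_mul, Module.End.mul_apply]
  · rintro ⟨c, hc⟩
    obtain ⟨a, ha, h⟩ := mem_cosets.1 (show ((c.out : G) : G ⧸ U) ∈ cosets U n by
      rw [QuotientGroup.out_eq']; exact hc)
    refine mem_cosets.2 ⟨a, ha, (ht _).2 ?_⟩
    convert h using 1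
    group
  · rintro ⟨c, hc⟩ ⟨d, hd⟩ h
    refine Subtype.ext ?_
    show c = d
    rw [← QuotientGroup.out_eq' c, ← QuotientGroup.out_eq' d, QuotientGroup.eq]
    have := (ht _).1 h
    convert this using 1
    group
  · intro u hu
    refine ⟨⟨((u * n : G) : G ⧸ U), mem_cosets.2 ⟨u, hu, by simp⟩⟩, ?_⟩
    obtain ⟨h, hh⟩ := QuotientGroup.mk_out_eq_mul U (u * n)
    refine (ht _).2 ?_
    show t * ((((u * n : G) : G ⧸ U).out * t)⁻¹ * (u * (n * t))) * t⁻¹ ∈ U
    rw [hh]
    convert inv_mem h.2 using 1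
    group

theorem hop_map {f : V →ₗ[k] W} (hf : Equivariant ρ σ f) (n : G) (v : V) :
    f (hop ρ U n v) = hop σ U n (f v) := by
  simp only [hop, map_sum]
  exact Finset.sum_congr rfl fun c _ => hf _ _

theorem hop_smul (n : G) (c : k) (v : V) : hop ρ U n (c • v) = c • hop ρ U n v := by
  simp only [hop, Finset.smul_sum, map_smul]

theorem hop_sum {J : Type*} (s : Finset J) (n : G) (v : J → V) :
    hop ρ U n (∑ j ∈ s, v j) = ∑ j ∈ s, hop ρ U n (v j) := by
  simp only [hop, map_sum]
  rw [Finset.sum_comm]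

/-- A `p`-group fixes a nonzero vector in characteristic `p`. -/
theorem exists_fixed {p : ℕ} [hp : Fact p.Prime] [CharP k p] (hU : IsPGroup p U)
    (ρ : Representation k G V) {v : V} (hv : v ≠ 0) : ∃ w : V, w ≠ 0 ∧ Fixed ρ U w := by
  classical
  letI : Module (ZMod p) V := Module.compHom V (ZMod.castHom (dvd_refl p) k)
  let f : (U → ZMod p) →+ V :=
    { toFun := fun c => ∑ u : U, c u • ρ u v
      map_zero' := by simp
      map_add' := fun a b => by simp [add_smul, Finset.sum_add_distrib] }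
  have hstab : ∀ u : U, ∀ x ∈ f.range, ρ u x ∈ f.range := by
    rintro u _ ⟨c, rfl⟩
    refine ⟨fun x => c (u⁻¹ * x), ?_⟩
    show ∑ x : U, c (u⁻¹ * x) • ρ x v = ρ u (∑ x : U, c x • ρ x v)
    rw [map_sum, ← Equiv.sum_comp (Equiv.mulLeft u)]
    refine Finset.sum_congr rfl fun x _ => ?_
    simp only [Equiv.coe_mulLeft, inv_mul_cancel_left]
    rw [show (c x • ρ (x : G) v) = (ZMod.castHom (dvd_refl p) k (c x)) • ρ (x : G) v from rfl, map_smul,
      ← Module.End.mul_apply, ← map_mul]
    rfl
  letI : MulAction U f.range :=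
    { smul := fun u x => ⟨ρ u x, hstab u _ x.2⟩
      one_smul := fun x => Subtype.ext (by show ρ ((1 : U) : G) x.1 = x.1; simp)
      mul_smul := fun a b x => Subtype.ext (by
        show ρ ((a * b : U) : G) x.1 = ρ a (ρ b x.1)
        rw [Subgroup.coe_mul, map_mul, Module.End.mul_apply]) }
  have hpg : IsPGroup p (Multiplicative (U → ZMod p)) :=
    IsPGroup.of_card (n := Fintype.card U) (by
      rw [Nat.card_eq_fintype_card, Fintype.card_multiplicative, Fintype.card_fun, ZMod.card])
  haveI : Finite f.range :=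
    Finite.of_surjective (fun c => (⟨f c, c, rfl⟩ : f.range)) fun ⟨_, c, hc⟩ => ⟨c, Subtype.ext hc⟩
  have hcard : p ∣ Nat.card f.range := by
    have hvmem : v ∈ f.range := by
      refine ⟨Pi.single 1 1, ?_⟩
      show ∑ x : U, (Pi.single (M := fun _ => ZMod p) (1 : U) 1 x) • ρ x v = v
      rw [Finset.sum_eq_single 1]
      · simp
      · intro b _ hb; simp [hb]
      · simp
    have h1 : Nat.card f.range ∣ Nat.card (U → ZMod p) := AddSubgroup.card_range_dvd f
    obtain ⟨m, -, hm⟩ := (Nat.dvd_prime_pow hp.out).1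
      (show Nat.card f.range ∣ p ^ Fintype.card U by simpa using h1)
    have hne : Nat.card f.range ≠ 1 := fun h => hv (by
      have := (Nat.card_eq_one_iff_unique.1 h).1
      exact congrArg Subtype.val (Subsingleton.elim (⟨v, hvmem⟩ : f.range) 0))
    rcases Nat.eq_zero_or_pos m with rfl | hmpos
    · exact absurd (by simpa using hm) hne
    · rw [hm]; exact dvd_pow_self p hmpos.ne'
  have h0 : (0 : f.range) ∈ MulAction.fixedPoints U f.range := fun u => Subtype.ext (by
    show ρ u (0 : V) = 0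
    simp)
  obtain ⟨w, hw, hw0⟩ := hU.exists_fixed_point_of_prime_dvd_card_of_fixed_point f.range hcard h0
  exact ⟨w.1, fun h => hw0 (Subtype.ext h.symm), fun u hu => congrArg Subtype.val (hw ⟨u, hu⟩)⟩

/-- Commuting operators on a finite-dimensional space have a common eigenvector in any stable subspace. -/
theorem exists_common_eigenvector [IsAlgClosed k] [FiniteDimensional k V] {H : Type*} [CommGroup H]
    (τ : Representation k H V) {v : V} (hv : v ≠ 0) :
    ∃ (w : V) (χ : H →* kˣ), w ∈ orbitSpan τ v ∧ w ≠ 0 ∧ ∀ h, τ h w = (χ h : k) • w := by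
  let T : Set (Submodule k V) := {Y | Y ≠ ⊥ ∧ Y ≤ orbitSpan τ v ∧ ∀ h, ∀ w ∈ Y, τ h w ∈ Y}
  have hne : T.Nonempty := ⟨orbitSpan τ v, fun h => hv ((Submodule.mem_bot k).1
    (h ▸ Submodule.subset_span ⟨1, by simp⟩)), le_rfl, orbitSpan_invariant τ v⟩
  obtain ⟨Y, ⟨hY0, hYle, hY⟩, hmin⟩ := (wellFounded_lt (α := Submodule k V)).has_min T hne
  have hnt : Nontrivial Y := Submodule.nontrivial_iff_ne_bot.2 hY0
  have hirr : Irred (subRep τ Y hY) := by
    refine ⟨hnt, fun Z hZ => ?_⟩
    by_contra hcon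
    push Not at hcon
    refine hmin (Z.map Y.subtype) ⟨?_, ?_, ?_⟩ ?_
    · intro h
      apply hcon.1
      rw [← Submodule.comap_map_eq_of_injective Y.injective_subtype Z, h, Submodule.comap_bot,
        Submodule.ker_subtype]
    · exact (Y.map_subtype_le Z).trans hYle
    · rintro h _ ⟨z, hz, rfl⟩
      exact ⟨_, hZ h z hz, rfl⟩
    · refine lt_of_le_of_ne (Y.map_subtype_le Z) fun h => hcon.2 ?_
      rw [← Submodule.comap_map_eq_of_injective Y.injective_subtype Z, h, Submodule.comap_subtype_self]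
  choose c hc using fun h => hirr.scalar (f := subRep τ Y hY h) fun g w => by
    rw [← Module.End.mul_apply, ← Module.End.mul_apply, ← map_mul, ← map_mul, mul_comm]
  obtain ⟨w, hw⟩ := exists_ne (0 : Y)
  have hval : ∀ h, τ h (w : V) = c h • (w : V) := fun h =>
    congrArg Subtype.val (LinearMap.congr_fun (hc h) w)
  have hw' : (w : V) ≠ 0 := fun h => hw (Subtype.ext h)
  have hmul : ∀ a b, c (a * b) = c a * c b := fun a b => by
    refine smul_left_injective k hw' ?_
    show c (a * b) • (w : V) = (c a * c b) • (w : V)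
    rw [← hval, map_mul, Module.End.mul_apply, hval, map_smul, hval, smul_smul, mul_comm]
  have hone : c 1 = 1 := smul_left_injective k hw' (by
    show c 1 • (w : V) = (1 : k) • (w : V)
    rw [← hval, map_one, one_smul]; rfl)
  let χ : H →* kˣ := MonoidHom.toHomUnits { toFun := c, map_one' := hone, map_mul' := hmul }
  exact ⟨w, χ, hYle w.2, hw', hval⟩

end Cfsg.Lib.Modular
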